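import Cfsg.Agent.CosetCert.ThChain2.Defs

/-! Generated: kernel checks. -/

set_option Elab.async false

namespace Cfsg.Agent.CosetCert.ThChain2

theorem log_okAt120000 : allFrom data.checkLog 120000 2500 = true := by decide +kernel

theorem log_okAt122500 : allFrom data.checkLog 122500 2500 = true := by decide +kernel

theorem log_okAt125000 : allFrom data.checkLog 125000 2500 = true := by decide +kernel

theorem log_okAt127500 : allFrom data.checkLog 127500 2500 = true := by decide +kernel

theorem log_okAt130000 : allFrom data.checkLog 130000 2500 = true := by decide +kernel

theorem log_okAt132500 : allFrom data.checkLog 132500 2500 = true := by decide +kernel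

theorem log_okAt135000 : allFrom data.checkLog 135000 2500 = true := by decide +kernel

theorem log_okAt137500 : allFrom data.checkLog 137500 2500 = true := by decide +kernel

end Cfsg.Agent.CosetCert.ThChain2
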