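import Cfsg.Agent.CosetCert.ThChain2.Defs

/-! Generated: kernel checks. -/

set_option Elab.async false

namespace Cfsg.Agent.CosetCert.ThChain2

theorem log_okAt140000 : allFrom data.checkLog 140000 2500 = true := by decide +kernel

theorem log_okAt142500 : allFrom data.checkLog 142500 2500 = true := by decide +kernel

theorem log_okAt145000 : allFrom data.checkLog 145000 2500 = true := by decide +kernel

theorem log_okAt147500 : allFrom data.checkLog 147500 2500 = true := by decide +kernel

theorem log_okAt150000 : allFrom data.checkLog 150000 2500 = true := by decide +kernel

theorem log_okAt152500 : allFrom data.checkLog 152500 2500 = true := by decide +kernel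

theorem log_okAt155000 : allFrom data.checkLog 155000 2500 = true := by decide +kernel

theorem log_okAt157500 : allFrom data.checkLog 157500 2500 = true := by decide +kernel

end Cfsg.Agent.CosetCert.ThChain2
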