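import Cfsg.Agent.CosetCert.ThChain2.Defs

/-! Generated: kernel checks. -/

set_option Elab.async false

namespace Cfsg.Agent.CosetCert.ThChain2

theorem log_okAt180000 : allFrom data.checkLog 180000 2500 = true := by decide +kernel

theorem log_okAt182500 : allFrom data.checkLog 182500 1340 = true := by decide +kernel

end Cfsg.Agent.CosetCert.ThChain2
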