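import Cfsg.Agent.CosetCert.ThChain2.CheckLog0
import Cfsg.Agent.CosetCert.ThChain2.CheckLog1
import Cfsg.Agent.CosetCert.ThChain2.CheckLog2
import Cfsg.Agent.CosetCert.ThChain2.CheckLog3
import Cfsg.Agent.CosetCert.ThChain2.CheckLog4
import Cfsg.Agent.CosetCert.ThChain2.CheckLog5
import Cfsg.Agent.CosetCert.ThChain2.CheckLog6
import Cfsg.Agent.CosetCert.ThChain2.CheckLog7
import Cfsg.Agent.CosetCert.ThChain2.CheckLog8
import Cfsg.Agent.CosetCert.ThChain2.CheckLog9

/-! Generated: kernel checks combined. -/

namespace Cfsg.Agent.CosetCert.ThChain2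

theorem log_ok : ∀ i, i < 183840 → data.checkLog i = true := by
  have h0 : ∀ i, i < 0 → data.checkLog i = true := forall_lt_zero
  have h1 := forall_lt_step (b := 2500) h0 log_okAt0 rfl
  have h2 := forall_lt_step (b := 5000) h1 log_okAt2500 rfl
  have h3 := forall_lt_step (b := 7500) h2 log_okAt5000 rfl
  have h4 := forall_lt_step (b := 10000) h3 log_okAt7500 rfl
  have h5 := forall_lt_step (b := 12500) h4 log_okAt10000 rfl
  have h6 := forall_lt_step (b := 15000) h5 log_okAt12500 rfl
  have h7 := forall_lt_step (b := 17500) h6 log_okAt15000 rfl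
  have h8 := forall_lt_step (b := 20000) h7 log_okAt17500 rfl
  have h9 := forall_lt_step (b := 22500) h8 log_okAt20000 rfl
  have h10 := forall_lt_step (b := 25000) h9 log_okAt22500 rfl
  have h11 := forall_lt_step (b := 27500) h10 log_okAt25000 rfl
  have h12 := forall_lt_step (b := 30000) h11 log_okAt27500 rfl
  have h13 := forall_lt_step (b := 32500) h12 log_okAt30000 rfl
  have h14 := forall_lt_step (b := 35000) h13 log_okAt32500 rfl
  have h15 := forall_lt_step (b := 37500) h14 log_okAt35000 rfl
  have h16 := forall_lt_step (b := 40000) h15 log_okAt37500 rfl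
  have h17 := forall_lt_step (b := 42500) h16 log_okAt40000 rfl
  have h18 := forall_lt_step (b := 45000) h17 log_okAt42500 rfl
  have h19 := forall_lt_step (b := 47500) h18 log_okAt45000 rfl
  have h20 := forall_lt_step (b := 50000) h19 log_okAt47500 rfl
  have h21 := forall_lt_step (b := 52500) h20 log_okAt50000 rfl
  have h22 := forall_lt_step (b := 55000) h21 log_okAt52500 rfl
  have h23 := forall_lt_step (b := 57500) h22 log_okAt55000 rfl
  have h24 := forall_lt_step (b := 60000) h23 log_okAt57500 rfl
  have h25 := forall_lt_step (b := 62500) h24 log_okAt60000 rfl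
  have h26 := forall_lt_step (b := 65000) h25 log_okAt62500 rfl
  have h27 := forall_lt_step (b := 67500) h26 log_okAt65000 rfl
  have h28 := forall_lt_step (b := 70000) h27 log_okAt67500 rfl
  have h29 := forall_lt_step (b := 72500) h28 log_okAt70000 rfl
  have h30 := forall_lt_step (b := 75000) h29 log_okAt72500 rfl
  have h31 := forall_lt_step (b := 77500) h30 log_okAt75000 rfl
  have h32 := forall_lt_step (b := 80000) h31 log_okAt77500 rfl
  have h33 := forall_lt_step (b := 82500) h32 log_okAt80000 rfl
  have h34 := forall_lt_step (b := 85000) h33 log_okAt82500 rfl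
  have h35 := forall_lt_step (b := 87500) h34 log_okAt85000 rfl
  have h36 := forall_lt_step (b := 90000) h35 log_okAt87500 rfl
  have h37 := forall_lt_step (b := 92500) h36 log_okAt90000 rfl
  have h38 := forall_lt_step (b := 95000) h37 log_okAt92500 rfl
  have h39 := forall_lt_step (b := 97500) h38 log_okAt95000 rfl
  have h40 := forall_lt_step (b := 100000) h39 log_okAt97500 rfl
  have h41 := forall_lt_step (b := 102500) h40 log_okAt100000 rfl
  have h42 := forall_lt_step (b := 105000) h41 log_okAt102500 rfl
  have h43 := forall_lt_step (b := 107500) h42 log_okAt105000 rfl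
  have h44 := forall_lt_step (b := 110000) h43 log_okAt107500 rfl
  have h45 := forall_lt_step (b := 112500) h44 log_okAt110000 rfl
  have h46 := forall_lt_step (b := 115000) h45 log_okAt112500 rfl
  have h47 := forall_lt_step (b := 117500) h46 log_okAt115000 rfl
  have h48 := forall_lt_step (b := 120000) h47 log_okAt117500 rfl
  have h49 := forall_lt_step (b := 122500) h48 log_okAt120000 rfl
  have h50 := forall_lt_step (b := 125000) h49 log_okAt122500 rfl
  have h51 := forall_lt_step (b := 127500) h50 log_okAt125000 rfl
  have h52 := forall_lt_step (b := 130000) h51 log_okAt127500 rfl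
  have h53 := forall_lt_step (b := 132500) h52 log_okAt130000 rfl
  have h54 := forall_lt_step (b := 135000) h53 log_okAt132500 rfl
  have h55 := forall_lt_step (b := 137500) h54 log_okAt135000 rfl
  have h56 := forall_lt_step (b := 140000) h55 log_okAt137500 rfl
  have h57 := forall_lt_step (b := 142500) h56 log_okAt140000 rfl
  have h58 := forall_lt_step (b := 145000) h57 log_okAt142500 rfl
  have h59 := forall_lt_step (b := 147500) h58 log_okAt145000 rfl
  have h60 := forall_lt_step (b := 150000) h59 log_okAt147500 rfl
  have h61 := forall_lt_step (b := 152500) h60 log_okAt150000 rfl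
  have h62 := forall_lt_step (b := 155000) h61 log_okAt152500 rfl
  have h63 := forall_lt_step (b := 157500) h62 log_okAt155000 rfl
  have h64 := forall_lt_step (b := 160000) h63 log_okAt157500 rfl
  have h65 := forall_lt_step (b := 162500) h64 log_okAt160000 rfl
  have h66 := forall_lt_step (b := 165000) h65 log_okAt162500 rfl
  have h67 := forall_lt_step (b := 167500) h66 log_okAt165000 rfl
  have h68 := forall_lt_step (b := 170000) h67 log_okAt167500 rfl
  have h69 := forall_lt_step (b := 172500) h68 log_okAt170000 rfl
  have h70 := forall_lt_step (b := 175000) h69 log_okAt172500 rfl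
  have h71 := forall_lt_step (b := 177500) h70 log_okAt175000 rfl
  have h72 := forall_lt_step (b := 180000) h71 log_okAt177500 rfl
  have h73 := forall_lt_step (b := 182500) h72 log_okAt180000 rfl
  have h74 := forall_lt_step (b := 183840) h73 log_okAt182500 rfl
  exact h74

end Cfsg.Agent.CosetCert.ThChain2
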