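import Cfsg.Agent.CosetCert.ThChain2.Defs

/-! Generated: kernel checks. -/

set_option Elab.async false

namespace Cfsg.Agent.CosetCert.ThChain2

theorem coset_okAt6000 : allFrom data.checkCoset 6000 750 = true := by decide +kernel

theorem coset_okAt6750 : allFrom data.checkCoset 6750 750 = true := by decide +kernel

theorem coset_okAt7500 : allFrom data.checkCoset 7500 750 = true := by decide +kernel

theorem coset_okAt8250 : allFrom data.checkCoset 8250 750 = true := by decide +kernel

theorem coset_okAt9000 : allFrom data.checkCoset 9000 750 = true := by decide +kernel

theorem coset_okAt9750 : allFrom data.checkCoset 9750 750 = true := by decide +kernel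

theorem coset_okAt10500 : allFrom data.checkCoset 10500 750 = true := by decide +kernel

theorem coset_okAt11250 : allFrom data.checkCoset 11250 750 = true := by decide +kernel

end Cfsg.Agent.CosetCert.ThChain2
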