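import Cfsg.Agent.CosetCert.ThChain2.FactsData
import Cfsg.Agent.CosetCert.ThChain2.JustData
import Cfsg.Agent.CosetCert.ThChain2.TableData
import Cfsg.Prelude.Def_Spor_Th
import Cfsg.Agent.CosetCert.CoxExtra
import Cfsg.Agent.CosetCert.Pack

/-! Generated: the certificate. -/

set_option maxRecDepth 100000

namespace Cfsg.Agent.CosetCert.ThChain2

noncomputable def data : Data where
  K := 12
  n := 17472
  M := 34611
  Nf := 183840
  nR := 33
  iv := fun x => if x < 6 then x + 6 else if x < 12 then x - 6 else x
  F := get48 factStore
  J := getVar justStore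
  E := get48 edgeStore
  L := get48 repStore
  P := get48 treeStore
  W := [
    [0, 0],
    [1, 1],
    [2, 2],
    [3, 3],
    [4, 4],
    [0, 1, 0, 1, 0, 1],
    [0, 4, 0, 4],
    [1, 2, 1, 2, 1, 2],
    [1, 3, 1, 3],
    [1, 4, 1, 4],
    [0, 9, 8, 9, 8, 9, 8, 9, 8],
    [2, 4, 2, 4],
    [3, 4, 3, 4, 3, 4],
    [1, 2, 3, 4, 1, 2, 3, 4, 1, 2, 3, 4, 1, 2, 3, 4, 1, 2, 3, 4, 1, 2, 3, 4, 1, 2, 3, 4, 1, 2, 3, 4],
    [5, 5, 5, 5, 5, 5, 5],
    [11, 6, 5, 0],
    [11, 7, 5, 1],
    [11, 8, 5, 2],
    [5, 3, 5, 3],
    [10, 11, 4, 11, 11, 10, 5, 5, 5],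
    [],
    [0, 6],
    [1, 7],
    [2, 8],
    [3, 9],
    [4, 10],
    [5, 11],
    [6, 0],
    [7, 1],
    [8, 2],
    [9, 3],
    [10, 4],
    [11, 5],
    [0],
    [1],
    [2],
    [3],
    [4]]
  PW := fun k => Nat.land (Nat.shiftRight 0x14000000000000000000000000000000000000004000000000000000000000000000000000000000c00000000000000000000000000000000000000200000000000000000000000000000000000000040000000000000000000000000000000000000cc00000000000000000000000000000000000002ac00000000000000000000000000000000000008a00000000000000000000000000000000000001a4000000000000000000000000000000000000048000000000000000000000000000000000000009c0000000000000000000000000000000000001860000000000000000000000000000000000000594000000000000000000000000000000000000144000000000000000000000000000000000000048c0000000000000000000000000000000000001020000000000000000000000000000000000000384000000000000000000000000000000000000000000000000000000000000000000018c65b18562c00000000000000000000000000000000002188600000000000000000000000000000000000664b000000000000000000000000000000000001190c00000000000000000000000000000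000000263b000000000000000000000000000000018c6318c6a4188a4188a4188a4188a4188a4188a4188a418800000000000000000000000000000000a4290a400000000000000000000000000000000000a328c00000000000000000000000000009525495254100000000000000000000000000000000000a228800000000000000000000000000000000002088200000000000000000000000000000000188621880000000000000000000000000000000000284a100000000000000000000000000000000104411040000000000000000000000000000000000000a500000000000000000000000000000000000002100000000000000000000000000000000000000630000000000000000000000000000000000000108000000000000000000000000000000000000021 (Nat.mul 158 k)) 0x3fffffffffffffffffffffffffffffffffffffff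
  powers := [
    ([0, 0], 1),
    ([1, 1], 1),
    ([2, 2], 1),
    ([3, 3], 1),
    ([4, 4], 1),
    ([0, 1, 0, 1, 0, 1], 1),
    ([0, 4, 0, 4], 1),
    ([1, 2, 1, 2, 1, 2], 1),
    ([1, 3, 1, 3], 1),
    ([1, 4, 1, 4], 1),
    ([0, 9, 8, 9, 8, 9, 8, 9, 8], 1),
    ([2, 4, 2, 4], 1),
    ([3, 4, 3, 4, 3, 4], 1),
    ([1, 2, 3, 4, 1, 2, 3, 4, 1, 2, 3, 4, 1, 2, 3, 4, 1, 2, 3, 4, 1, 2, 3, 4, 1, 2, 3, 4, 1, 2, 3, 4], 1),
    ([5, 5, 5, 5, 5, 5, 5], 1),
    ([11, 6, 5, 0], 1),
    ([11, 7, 5, 1], 1),
    ([11, 8, 5, 2], 1),
    ([5, 3, 5, 3], 1),
    ([10, 11, 4, 11, 11, 10, 5, 5, 5], 1),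
    ([], 1),
    ([0, 6], 1),
    ([1, 7], 1),
    ([2, 8], 1),
    ([3, 9], 1),
    ([4, 10], 1),
    ([5, 11], 1),
    ([6, 0], 1),
    ([7, 1], 1),
    ([8, 2], 1),
    ([9, 3], 1),
    ([10, 4], 1),
    ([11, 5], 1)]

/-- The relators. -/
def relWords : List (List (Fin 6 × Bool)) := [
    [(0, true), (0, true)],
    [(1, true), (1, true)],
    [(2, true), (2, true)],
    [(3, true), (3, true)],
    [(4, true), (4, true)],
    [(0, true), (1, true), (0, true), (1, true), (0, true), (1, true)],
    [(0, true), (4, true), (0, true), (4, true)],
    [(1, true), (2, true), (1, true), (2, true), (1, true), (2, true)],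
    [(1, true), (3, true), (1, true), (3, true)],
    [(1, true), (4, true), (1, true), (4, true)],
    [(0, true), (3, false), (2, false), (3, false), (2, false), (3, false), (2, false), (3, false), (2, false)],
    [(2, true), (4, true), (2, true), (4, true)],
    [(3, true), (4, true), (3, true), (4, true), (3, true), (4, true)],
    [(1, true), (2, true), (3, true), (4, true), (1, true), (2, true), (3, true), (4, true), (1, true), (2, true), (3, true), (4, true), (1, true), (2, true), (3, true), (4, true), (1, true), (2, true), (3, true), (4, true), (1, true), (2, true), (3, true), (4, true), (1, true), (2, true), (3, true), (4, true), (1, true), (2, true), (3, true), (4, true)],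
    [(5, true), (5, true), (5, true), (5, true), (5, true), (5, true), (5, true)],
    [(5, false), (0, false), (5, true), (0, true)],
    [(5, false), (1, false), (5, true), (1, true)],
    [(5, false), (2, false), (5, true), (2, true)],
    [(5, true), (3, true), (5, true), (3, true)],
    [(4, false), (5, false), (4, true), (5, false), (5, false), (4, false), (5, true), (5, true), (5, true)]]

/-- The subgroup's generators. -/
def subLetters : List (Fin 6) := [0, 1, 2, 3, 4]

/-- The numbering of the generators. -/
def enc (b : Fin 6) : Nat := b.val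

/-- The generator of a number. -/
def dec (x : Nat) : Fin 6 × Bool := if x < 6 then (Fin.ofNat 6 x, true) else (Fin.ofNat 6 x, false)

/-- The generators among those of the Thompson group. -/
def ren : Fin 6 → Cfsg.Spor.Th.Gen
  | ⟨0, _⟩ => .a
  | ⟨1, _⟩ => .b
  | ⟨2, _⟩ => .c
  | ⟨3, _⟩ => .d
  | ⟨4, _⟩ => .e
  | ⟨5, _⟩ => .s

end Cfsg.Agent.CosetCert.ThChain2
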